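import Cfsg.Agent.H45.FX.Norm

/-!
# S5242: Lemma M (the transfer lemma)
-/

namespace Cfsg.Agent.H45.FX

open Pointwise

variable {G : Type*} [Group G] {D : Type*} [AddCommGroup D] [DistribMulAction G D]

theorem conj_smul_self {T : Subgroup G} {t : G} (ht : t ∈ T) : MulAut.conj t • T = T := by
  ext x
  rw [mem_conj_smul]
  constructor
  · intro h
    have : x = t * (t⁻¹ * x * t) * t⁻¹ := by group
    rw [this]
    exact T.mul_mem (T.mul_mem ht h) (T.inv_mem ht)
  · intro h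
    exact T.mul_mem (T.mul_mem (T.inv_mem ht) h) ht

theorem conj_smul_mul (a b : G) (R : Subgroup G) :
    MulAut.conj a • MulAut.conj b • R = MulAut.conj (a * b) • R := by
  rw [map_mul, mul_smul]

theorem conj_inv_smul_smul (a : G) (R : Subgroup G) :
    MulAut.conj a • MulAut.conj a⁻¹ • R = R := by
  rw [conj_smul_mul, mul_inv_cancel, map_one, one_smul]

theorem conj_smul_inv_smul (a : G) (R : Subgroup G) :
    MulAut.conj a⁻¹ • MulAut.conj a • R = R := by
  rw [conj_smul_mul, inv_mul_cancel, map_one, one_smul]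

theorem conj_smul_mono (a : G) {R S : Subgroup G} (h : R ≤ S) :
    MulAut.conj a • R ≤ MulAut.conj a • S := by
  intro x hx
  rw [mem_conj_smul] at hx ⊢
  exact h hx

theorem conj_smul_inf (a : G) (R S : Subgroup G) :
    MulAut.conj a • (R ⊓ S) = MulAut.conj a • R ⊓ MulAut.conj a • S := by
  ext x
  rw [mem_conj_smul, Subgroup.mem_inf, Subgroup.mem_inf, mem_conj_smul, mem_conj_smul]

/-- `R_{s d t} = s R_d s⁻¹` for `s, t ∈ T`. -/
theorem inf_conj_mul {T : Subgroup G} {s t : G} (hs : s ∈ T) (ht : t ∈ T) (d : G) :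
    T ⊓ MulAut.conj (s * d * t) • T = MulAut.conj s • (T ⊓ MulAut.conj d • T) := by
  rw [conj_smul_inf, conj_smul_self hs, ← conj_smul_mul, ← conj_smul_mul, conj_smul_self ht]

section rep

variable (T : Subgroup G)

/-- a representative of the double coset `T a T` -/
noncomputable def drep (a : G) : G :=
  Quotient.out (Quotient.mk (DoubleCoset.setoid (T : Set G) (T : Set G)) a)

theorem drep_spec (a : G) : ∃ s ∈ T, ∃ t ∈ T, a = s * drep T a * t := by
  have h : (DoubleCoset.setoid (T : Set G) (T : Set G)) (drep T a) a := Quotient.mk_out a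
  exact DoubleCoset.rel_iff.1 h

theorem drep_eq {a s t : G} (hs : s ∈ T) (ht : t ∈ T) : drep T (s * a * t) = drep T a := by
  unfold drep
  congr 1
  exact (Quotient.sound (DoubleCoset.rel_iff.2 ⟨s, hs, t, ht, rfl⟩)).symm

/-- the left factor -/
noncomputable def dlef (a : G) : G := (drep_spec T a).choose

theorem dlef_mem (a : G) : dlef T a ∈ T := (drep_spec T a).choose_spec.1

theorem dlef_spec (a : G) : ∃ t ∈ T, a = dlef T a * drep T a * t := (drep_spec T a).choose_spec.2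

end rep

/-- The data of Lemma M. -/
structure MDat (T X : Subgroup G) (Qf : Subgroup G → Prop) (U : AddSubgroup D)
    (M0 : Subgroup G → AddSubgroup D) : Prop where
  q_le : ∀ R, Qf R → R ≤ T
  q_up : ∀ R R', Qf R → R ≤ R' → R' ≤ T → Qf R'
  q_conj : ∀ (g : G) R, Qf R → MulAut.conj g • R ≤ T → Qf (MulAut.conj g • R)
  hU : ∀ g : G, ∀ x ∈ U, g • x ∈ U
  m1 : ∀ R R', Qf R → R ≤ R' → R' ≤ T → M0 R' ≤ M0 R
  m2 : ∀ (g : G) R, Qf R → MulAut.conj g • R ≤ T → ∀ x ∈ M0 R, g • x ∈ M0 (MulAut.conj g • R)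
  m3 : ∀ R P, Qf R → R ≤ P → P ≤ T → ∀ x ∈ M0 R, nm R P x ∈ M0 P
  hn : ∀ R P, X ≤ R → R ≤ P → ¬ Qf R → Qf P → ∀ x ∈ U, x ∈ (Fx R : AddSubgroup D) → nm R P x ∈ M0 P

namespace MDat

variable {T X : Subgroup G} {Qf : Subgroup G → Prop} {U : AddSubgroup D}
  {M0 : Subgroup G → AddSubgroup D} (h : MDat T X Qf U M0) {e : G → D} (he : IsCo T Qf M0 U e)

open Classical in
/-- the cochain extended by zero -/
noncomputable def e0 (T : Subgroup G) (Qf : Subgroup G → Prop) (e : G → D) (a : G) : D :=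
  if Qf (T ⊓ MulAut.conj a • T) then e a else 0

/-- the equivariant cochain -/
noncomputable def e1 (T : Subgroup G) (Qf : Subgroup G → Prop) (e : G → D) (a : G) : D :=
  dlef T a • e0 T Qf e (drep T a)

include he in
theorem e0_mem (a : G) : e0 T Qf e a ∈ (Fx (T ⊓ MulAut.conj a • T) : AddSubgroup D) ∧
    e0 T Qf e a ∈ U := by
  unfold e0
  split_ifs with hq
  · exact he.mem a hq
  · exact ⟨AddSubgroup.zero_mem _, AddSubgroup.zero_mem _⟩

include he in
theorem e1_eq {a s t : G} (hs : s ∈ T) (ht : t ∈ T) (ha : a = s * drep T a * t) :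
    e1 T Qf e a = s • e0 T Qf e (drep T a) := by
  unfold e1
  obtain ⟨t0, ht0, ha0⟩ := dlef_spec T a
  set d := drep T a
  set s0 := dlef T a
  have hs0 : s0 ∈ T := dlef_mem T a
  have h1 : s⁻¹ * s0 = d * (t * t0⁻¹) * d⁻¹ := by
    have h2 : s * d * t = s0 * d * t0 := by rw [← ha, ← ha0]
    have h3 : s0 = s * d * t * t0⁻¹ * d⁻¹ := by rw [h2]; group
    rw [h3]; group
  have hmem : s⁻¹ * s0 ∈ T ⊓ MulAut.conj d • T := by
    rw [Subgroup.mem_inf]
    refine ⟨T.mul_mem (T.inv_mem hs) hs0, ?_⟩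
    rw [mem_conj_smul, h1]
    have : d⁻¹ * (d * (t * t0⁻¹) * d⁻¹) * d = t * t0⁻¹ := by group
    rw [this]
    exact T.mul_mem ht (T.inv_mem ht0)
  have h4 := (e0_mem he d).1 _ hmem
  conv_rhs => rw [← h4]
  rw [smul_smul]
  congr 1
  group

include he in
theorem e1_mul {a s t : G} (hs : s ∈ T) (ht : t ∈ T) :
    e1 T Qf e (s * a * t) = s • e1 T Qf e a := by
  obtain ⟨t0, ht0, ha0⟩ := dlef_spec T a
  have h1 : s * a * t = (s * dlef T a) * drep T (s * a * t) * (t0 * t) := by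
    rw [drep_eq T hs ht]
    conv_lhs => rw [ha0]
    group
  rw [e1_eq he (T.mul_mem hs (dlef_mem T a)) (T.mul_mem ht0 ht) h1, drep_eq T hs ht, mul_smul]
  rfl

include h he in
theorem e1_mem (a : G) : e1 T Qf e a ∈ (Fx (T ⊓ MulAut.conj a • T) : AddSubgroup D) ∧
    e1 T Qf e a ∈ U := by
  obtain ⟨t0, ht0, ha0⟩ := dlef_spec T a
  constructor
  · conv => enter [1, 1]; rw [ha0, inf_conj_mul (dlef_mem T a) ht0]
    exact smul_mem_Fx_conj _ (e0_mem he _).1
  · exact h.hU _ _ (e0_mem he _).2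

include h he in
theorem e1_sub {a : G} (ha : Qf (T ⊓ MulAut.conj a • T)) :
    e1 T Qf e a - e a ∈ M0 (T ⊓ MulAut.conj a • T) := by
  have hqT : Qf T := h.q_up _ _ ha inf_le_left le_rfl
  obtain ⟨t, ht, hat⟩ := dlef_spec T a
  set d := drep T a with hd
  set s := dlef T a with hs'
  have hs : s ∈ T := dlef_mem T a
  have hR : T ⊓ MulAut.conj a • T = MulAut.conj s • (T ⊓ MulAut.conj d • T) := by
    conv_lhs => rw [hat]
    exact inf_conj_mul hs ht d
  have hRd : T ⊓ MulAut.conj d • T = MulAut.conj s⁻¹ • (T ⊓ MulAut.conj a • T) := by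
    rw [hR, conj_smul_inv_smul]
  have hqd : Qf (T ⊓ MulAut.conj d • T) := by
    rw [hRd]
    exact h.q_conj _ _ ha (by rw [← hRd]; exact inf_le_left)
  have he0 : e0 T Qf e d = e d := by unfold e0; rw [if_pos hqd]
  -- the three relations
  have c1 : e (s * (d * t)) - (e s + s • e (d * t)) ∈ M0 (T ⊓ MulAut.conj a • T) := by
    refine he.co s (d * t) _ ha ?_ ?_
    · rw [conj_smul_self hs]; exact inf_le_left
    · rw [← mul_assoc, ← hat]; exact inf_le_right
  have c2 : e s ∈ M0 (T ⊓ MulAut.conj a • T) := h.m1 _ _ ha inf_le_left le_rfl (he.tr s hs hqT)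
  have c3 : e (d * t) - (e d + d • e t) ∈ M0 (T ⊓ MulAut.conj d • T) := by
    refine he.co d t _ hqd inf_le_right ?_
    rw [← conj_smul_mul, conj_smul_self ht]; exact inf_le_right
  have c4 : d • e t ∈ M0 (T ⊓ MulAut.conj d • T) := by
    have hle : MulAut.conj d⁻¹ • (T ⊓ MulAut.conj d • T) ≤ T := by
      intro x hx
      rw [mem_conj_smul] at hx
      have := (Subgroup.mem_inf.1 hx).2
      rw [mem_conj_smul] at this
      have e1 : d⁻¹ * (d⁻¹⁻¹ * x * d⁻¹) * d = x := by group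
      rwa [e1] at this
    have hq : Qf (MulAut.conj d⁻¹ • (T ⊓ MulAut.conj d • T)) := h.q_conj _ _ hqd hle
    have h1 : e t ∈ M0 (MulAut.conj d⁻¹ • (T ⊓ MulAut.conj d • T)) :=
      h.m1 _ _ hq hle le_rfl (he.tr t ht hqT)
    have h2 := h.m2 d _ hq (by rw [conj_inv_smul_smul]; exact inf_le_left) _ h1
    rwa [conj_inv_smul_smul] at h2
  have c5 : s • (e (d * t) - e d) ∈ M0 (T ⊓ MulAut.conj a • T) := by
    have h1 : e (d * t) - e d ∈ M0 (T ⊓ MulAut.conj d • T) := by
      have : e (d * t) - e d = (e (d * t) - (e d + d • e t)) + d • e t := by abel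
      rw [this]
      exact AddSubgroup.add_mem _ c3 c4
    rw [hR]
    exact h.m2 s _ hqd (by rw [← hR]; exact inf_le_left) _ h1
  have e1' : e1 T Qf e a = s • e d := by
    unfold e1
    rw [← hs', ← hd, he0]
  have ea : e a = e (s * (d * t)) := by rw [← mul_assoc, ← hat]
  rw [e1', ea]
  have : s • e d - e (s * (d * t)) =
      -((e (s * (d * t)) - (e s + s • e (d * t))) + e s + s • (e (d * t) - e d)) := by
    rw [smul_sub]; abel
  rw [this]
  exact AddSubgroup.neg_mem _ (AddSubgroup.add_mem _ (AddSubgroup.add_mem _ c1 c2) c5)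

variable [Finite G]

/-- the cochain on `G ⧸ T` -/
noncomputable def eq1 (T : Subgroup G) (Qf : Subgroup G → Prop) (e : G → D) (y : G ⧸ T) : D :=
  e1 T Qf e (Quotient.out y)

include he in
omit [Finite G] in
theorem eq1_mk (b : G) : eq1 T Qf e (QuotientGroup.mk b) = e1 T Qf e b := by
  unfold eq1
  obtain ⟨s, hs⟩ := QuotientGroup.mk_out_eq_mul T b
  have h1 : (Quotient.out (QuotientGroup.mk b : G ⧸ T)) = b * (s : G) := hs
  rw [h1]
  have h2 := e1_mul he (a := b) T.one_mem s.2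
  rwa [one_mul, one_smul] at h2

include he in
theorem eq1_smul {t : G} (ht : t ∈ T) (y : G ⧸ T) : eq1 T Qf e (t • y) = t • eq1 T Qf e y := by
  induction y using QuotientGroup.induction_on with
  | H b =>
    have h1 : t • (QuotientGroup.mk b : G ⧸ T) = QuotientGroup.mk (t * b) := rfl
    rw [h1, eq1_mk he, eq1_mk he]
    have h2 := e1_mul he (a := b) ht T.one_mem
    rwa [mul_one] at h2

/-- the sum over `G ⧸ T` -/
noncomputable def u0 (T : Subgroup G) (Qf : Subgroup G → Prop) (e : G → D) : D :=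
  ∑ᶠ y : G ⧸ T, eq1 T Qf e y

include he in
theorem u0_mem_Fx : u0 T Qf e ∈ (Fx T : AddSubgroup D) := by
  intro t ht
  unfold u0
  have := Fintype.ofFinite (G ⧸ T)
  rw [finsum_eq_sum_of_fintype, Finset.smul_sum]
  refine Fintype.sum_equiv (MulAction.toPerm t) _ _ fun y => ?_
  rw [MulAction.toPerm_apply, eq1_smul he ht]

include h he in
theorem u0_mem_U : u0 T Qf e ∈ U := by
  unfold u0
  have := Fintype.ofFinite (G ⧸ T)
  rw [finsum_eq_sum_of_fintype]
  exact AddSubgroup.sum_mem _ fun y _ => (e1_mem h he _).2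

include h he in
theorem main_mem (hX : X.Normal) (hXT : X ≤ T) {a : G} (ha : Qf (T ⊓ MulAut.conj a • T)) :
    a • u0 T Qf e - u0 T Qf e + T.index • e1 T Qf e a ∈ M0 (T ⊓ MulAut.conj a • T) := by
  classical
  set P := T ⊓ MulAut.conj a • T with hP
  set F : G ⧸ T → D := fun z => a • eq1 T Qf e (a⁻¹ • z) - eq1 T Qf e z + e1 T Qf e a with hF
  have hsum : ∑ᶠ z, F z = a • u0 T Qf e - u0 T Qf e + T.index • e1 T Qf e a := by
    unfold u0
    have := Fintype.ofFinite (G ⧸ T)
    rw [finsum_eq_sum_of_fintype, finsum_eq_sum_of_fintype, hF]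
    rw [Finset.sum_add_distrib, Finset.sum_sub_distrib, Finset.sum_const, Finset.card_univ,
      ← Nat.card_eq_fintype_card, Finset.smul_sum]
    congr 2
    exact Fintype.sum_equiv (MulAction.toPerm a⁻¹) _ _ fun y => rfl
  rw [← hsum]
  have hPT : P ≤ T := inf_le_left
  have hact : ∀ (r : G), r ∈ P → ∀ z : G ⧸ T, F (r • z) = r • F z := by
    intro r hr z
    have hrT : r ∈ T := hPT hr
    have hra : a⁻¹ * r * a ∈ T := by
      have := (Subgroup.mem_inf.1 hr).2
      rwa [mem_conj_smul] at this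
    simp only [hF]
    rw [smul_add, smul_sub, eq1_smul he hrT]
    have h1 : a⁻¹ • r • z = (a⁻¹ * r * a) • a⁻¹ • z := by
      rw [smul_smul, smul_smul]
      congr 1
      group
    have h2 : r • e1 T Qf e a = e1 T Qf e a := (e1_mem h he a).1 r hr
    have h3 : a * (a⁻¹ * r * a) = r * a := by group
    rw [h1, eq1_smul he hra, smul_smul, smul_smul, h2, h3]
  refine orbit_sum_mem (P := P) (Z := G ⧸ T) F (fun g z => hact g g.2 z) _ ?_
  intro z R hR
  induction z using QuotientGroup.induction_on with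
  | H b =>
    have hRe : R = P ⊓ MulAut.conj b • T := by
      ext g
      refine (hR g).trans ?_
      constructor
      · rintro ⟨hg, hgz⟩
        refine Subgroup.mem_inf.2 ⟨hg, ?_⟩
        rw [mem_conj_smul]
        have h1 : (QuotientGroup.mk (g * b) : G ⧸ T) = QuotientGroup.mk b := hgz
        have h2 := QuotientGroup.eq.1 h1.symm
        rwa [← mul_assoc] at h2
      · intro hgg
        obtain ⟨hg, hgb⟩ := Subgroup.mem_inf.1 hgg
        rw [mem_conj_smul] at hgb
        refine ⟨hg, ?_⟩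
        change (QuotientGroup.mk (g * b) : G ⧸ T) = QuotientGroup.mk b
        refine (QuotientGroup.eq.2 ?_).symm
        rwa [← mul_assoc]
    have hRP : R ≤ P := by rw [hRe]; exact inf_le_left
    have hRb : R ≤ MulAut.conj b • T := by rw [hRe]; exact inf_le_right
    have hRa : R ≤ MulAut.conj a • T := hRP.trans inf_le_right
    have hRT : R ≤ T := hRP.trans hPT
    have hFx : F (QuotientGroup.mk b) ∈ (Fx R : AddSubgroup D) := by
      intro r hr
      obtain ⟨hrP, hrz⟩ := (hR r).1 hr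
      have h1 : (r • (QuotientGroup.mk b : G ⧸ T)) = QuotientGroup.mk b := hrz
      rw [← hact r hrP, h1]
    have hFval : F (QuotientGroup.mk b) =
        a • e1 T Qf e (a⁻¹ * b) - e1 T Qf e b + e1 T Qf e a := by
      simp only [hF]
      have h1 : a⁻¹ • (QuotientGroup.mk b : G ⧸ T) = QuotientGroup.mk (a⁻¹ * b) := rfl
      rw [h1, eq1_mk he, eq1_mk he]
    have hFU : F (QuotientGroup.mk b) ∈ U := by
      rw [hFval]
      exact U.add_mem (U.sub_mem (h.hU _ _ (e1_mem h he _).2) (e1_mem h he _).2) (e1_mem h he _).2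
    by_cases hQR : Qf R
    · refine h.m3 R P hQR hRP hPT _ ?_
      rw [hFval]
      -- the cocycle relation
      have k1 : e (a * (a⁻¹ * b)) - (e a + a • e (a⁻¹ * b)) ∈ M0 R := by
        refine he.co a (a⁻¹ * b) R hQR hRa ?_
        rwa [mul_inv_cancel_left]
      rw [mul_inv_cancel_left] at k1
      have k2 : e1 T Qf e b - e b ∈ M0 R := by
        have hle : R ≤ T ⊓ MulAut.conj b • T := le_inf hRT hRb
        exact h.m1 _ _ hQR hle inf_le_left (e1_sub h he (h.q_up _ _ hQR hle inf_le_left))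
      have k3 : e1 T Qf e a - e a ∈ M0 R := by
        have hle : R ≤ T ⊓ MulAut.conj a • T := le_inf hRT hRa
        exact h.m1 _ _ hQR hle inf_le_left (e1_sub h he (h.q_up _ _ hQR hle inf_le_left))
      have k4 : a • (e1 T Qf e (a⁻¹ * b) - e (a⁻¹ * b)) ∈ M0 R := by
        set R' := MulAut.conj a⁻¹ • R with hR'
        have hR'T : R' ≤ T := by
          have h1 := conj_smul_mono a⁻¹ hRa
          rwa [conj_smul_inv_smul] at h1
        have hR'b : R' ≤ MulAut.conj (a⁻¹ * b) • T := by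
          have h1 := conj_smul_mono a⁻¹ hRb
          rwa [conj_smul_mul] at h1
        have hqR' : Qf R' := h.q_conj _ _ hQR hR'T
        have hle : R' ≤ T ⊓ MulAut.conj (a⁻¹ * b) • T := le_inf hR'T hR'b
        have h1 : e1 T Qf e (a⁻¹ * b) - e (a⁻¹ * b) ∈ M0 R' :=
          h.m1 _ _ hqR' hle inf_le_left (e1_sub h he (h.q_up _ _ hqR' hle inf_le_left))
        have h2 := h.m2 a R' hqR' (by rw [hR', conj_inv_smul_smul]; exact hRT) _ h1
        rwa [hR', conj_inv_smul_smul] at h2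
      have : a • e1 T Qf e (a⁻¹ * b) - e1 T Qf e b + e1 T Qf e a =
          a • (e1 T Qf e (a⁻¹ * b) - e (a⁻¹ * b)) - (e1 T Qf e b - e b) + (e1 T Qf e a - e a) -
          (e b - (e a + a • e (a⁻¹ * b))) := by
        rw [smul_sub]; abel
      rw [this]
      exact AddSubgroup.sub_mem _ (AddSubgroup.add_mem _ (AddSubgroup.sub_mem _ k4 k2) k3) k1
    · have hXR : X ≤ R := by
        rw [hRe, hP]
        refine le_inf (le_inf hXT ?_) ?_
        · intro x hx
          rw [mem_conj_smul]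
          have := hX.conj_mem x hx a⁻¹
          rw [inv_inv] at this
          exact hXT this
        · intro x hx
          rw [mem_conj_smul]
          have := hX.conj_mem x hx b⁻¹
          rw [inv_inv] at this
          exact hXT this
      exact h.hn R P hXR hRP hQR ha _ hFU hFx

include h he in
/-- **LEMMA M** -/
theorem lemmaM (hX : X.Normal) (hXT : X ≤ T) (m : ℤ)
    (hm : ∀ P, Qf P → ∀ x ∈ U, x ∈ (Fx P : AddSubgroup D) → (m * T.index) • x - x ∈ M0 P) :
    ∃ u : D, u ∈ (Fx T : AddSubgroup D) ∧ u ∈ U ∧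
      ∀ a : G, Qf (T ⊓ MulAut.conj a • T) →
        e a - (a • u - u) ∈ M0 (T ⊓ MulAut.conj a • T) := by
  refine ⟨-(m • u0 T Qf e), ?_, ?_, ?_⟩
  · exact AddSubgroup.neg_mem _ (AddSubgroup.zsmul_mem _ (u0_mem_Fx he) _)
  · exact AddSubgroup.neg_mem _ (AddSubgroup.zsmul_mem _ (u0_mem_U h he) _)
  · intro a ha
    have h1 := main_mem h he hX hXT ha
    have h2 := e1_sub h he ha
    have h3 := hm _ ha _ (e1_mem h he a).2 (e1_mem h he a).1
    have key : e a - (a • (-(m • u0 T Qf e)) - (-(m • u0 T Qf e))) =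
        m • (a • u0 T Qf e - u0 T Qf e + T.index • e1 T Qf e a) -
          ((m * T.index) • e1 T Qf e a - e1 T Qf e a) - (e1 T Qf e a - e a) := by
      rw [smul_neg, smul_comm a m, smul_add, smul_sub, mul_smul, natCast_zsmul]
      abel
    rw [key]
    exact AddSubgroup.sub_mem _ (AddSubgroup.sub_mem _ (AddSubgroup.zsmul_mem _ h1 _) h3) h2

end MDat

/-- **LEMMA M** -/
theorem lemmaM [Finite G] (T X : Subgroup G) (hX : X.Normal) (hXT : X ≤ T)
    (Qf : Subgroup G → Prop) (hQle : ∀ R, Qf R → R ≤ T)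
    (hQup : ∀ R R', Qf R → R ≤ R' → R' ≤ T → Qf R')
    (hQconj : ∀ (g : G) R, Qf R → MulAut.conj g • R ≤ T → Qf (MulAut.conj g • R))
    (U : AddSubgroup D) (hU : ∀ g : G, ∀ x ∈ U, g • x ∈ U)
    (M0 : Subgroup G → AddSubgroup D)
    (m1 : ∀ R R', Qf R → R ≤ R' → R' ≤ T → M0 R' ≤ M0 R)
    (m2 : ∀ (g : G) R, Qf R → MulAut.conj g • R ≤ T → ∀ x ∈ M0 R, g • x ∈ M0 (MulAut.conj g • R))
    (m3 : ∀ R P, Qf R → R ≤ P → P ≤ T → ∀ x ∈ M0 R, nm R P x ∈ M0 P)
    (hn : ∀ R P, X ≤ R → R ≤ P → ¬ Qf R → Qf P → ∀ x ∈ U, x ∈ (Fx R : AddSubgroup D) →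
      nm R P x ∈ M0 P)
    (m : ℤ) (hm : ∀ P, Qf P → ∀ x ∈ U, x ∈ (Fx P : AddSubgroup D) → (m * T.index) • x - x ∈ M0 P)
    (e : G → D) (he : IsCo T Qf M0 U e) :
    ∃ u : D, u ∈ (Fx T : AddSubgroup D) ∧ u ∈ U ∧
      ∀ a : G, Qf (T ⊓ MulAut.conj a • T) →
        e a - (a • u - u) ∈ M0 (T ⊓ MulAut.conj a • T) :=
  (MDat.mk hQle hQup hQconj hU m1 m2 m3 hn : MDat T X Qf U M0).lemmaM he hX hXT m hm

end Cfsg.Agent.H45.FX
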