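import Mathlib

/-!
# S5242: the local theorem: basic definitions

`G` a finite group, `D` an abelian group with a `G`-action, `T` a Sylow `p`-subgroup of `G`, `X ≤ T`
normal in `G`, `X` acting trivially on `D`.  `Fx R` is the group of fixed points of `R`, `nm R P` the norm
(transfer) from `R` to `P`.
-/

namespace Cfsg.Agent.H45.FX

open Pointwise

variable {G : Type*} [Group G] {D : Type*} [AddCommGroup D] [DistribMulAction G D]

/-- The fixed points of a subgroup. -/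
def Fx (R : Subgroup G) : AddSubgroup D where
  carrier := {x | ∀ r ∈ R, r • x = x}
  zero_mem' := fun r _ => smul_zero r
  add_mem' := by
    intro x y hx hy r hr
    rw [smul_add, hx r hr, hy r hr]
  neg_mem' := by
    intro x hx r hr
    rw [smul_neg, hx r hr]

theorem mem_Fx {R : Subgroup G} {x : D} : x ∈ (Fx R : AddSubgroup D) ↔ ∀ r ∈ R, r • x = x := Iff.rfl

/-- The norm from `R` to `P`: the sum of the `q • x`, `q` running over representatives of the left cosets of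
`R ⊓ P` in `P`. -/
noncomputable def nm (R P : Subgroup G) (x : D) : D :=
  ∑ᶠ q : P ⧸ R.subgroupOf P, ((Quotient.out q : P) : G) • x

/-- The data of the local theorem. -/
structure Loc (p : ℕ) (T X : Subgroup G) (Qf : Subgroup G → Prop) (M0 : Subgroup G → AddSubgroup D) :
    Prop where
  X_le : X ≤ T
  X_norm : X.Normal
  T_p : IsPGroup p T
  T_ind : ¬ p ∣ T.index
  X_triv : ∀ x ∈ X, ∀ d : D, x • d = d
  D_p : ∀ d : D, ∃ k : ℕ, p ^ k • d = 0
  q_le : ∀ R, Qf R → X ≤ R ∧ R ≤ T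
  q_up : ∀ R R', Qf R → R ≤ R' → R' ≤ T → Qf R'
  q_conj : ∀ (g : G) R, Qf R → MulAut.conj g • R ≤ T → Qf (MulAut.conj g • R)
  m0 : ∀ R, X ≤ R → R ≤ T → M0 R ≤ Fx R
  m1 : ∀ R R', X ≤ R → R ≤ R' → R' ≤ T → M0 R' ≤ M0 R
  m2 : ∀ (g : G) R, X ≤ R → R ≤ T → MulAut.conj g • R ≤ T →
    ∀ x ∈ M0 R, g • x ∈ M0 (MulAut.conj g • R)
  m3 : ∀ R P, X ≤ R → R ≤ P → P ≤ T → ∀ x ∈ M0 R, nm R P x ∈ M0 P
  m4 : ∀ R, X ≤ R → R ≤ T → ∀ x ∈ (Fx R : AddSubgroup D), p • x ∈ M0 R

/-- Hypothesis (H) of the local theorem, for the minimal members `B` of the family. -/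
structure HypH (D : Type*) [AddCommGroup D] [DistribMulAction G D] (p : ℕ) (X : Subgroup G)
    (Qf : Subgroup G → Prop) : Prop where
  i : ∀ B, Qf B → (∀ B', B' < B → ¬ Qf B') → ∀ E, X < E → E < B → E.relIndex B = p →
    (Fx E : AddSubgroup D) ≤ Fx B
  ii : ∀ B, Qf B → (∀ B', B' < B → ¬ Qf B') → X.relIndex B = p → (Fx B : AddSubgroup D).index ≤ p

/-- A cocycle modulo `M0` on the family `Qf`, with values in `U`, zero (modulo `M0`) on `T`. -/
structure IsCo (T : Subgroup G) (Qf : Subgroup G → Prop) (M0 : Subgroup G → AddSubgroup D)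
    (U : AddSubgroup D) (e : G → D) : Prop where
  mem : ∀ a : G, Qf (T ⊓ MulAut.conj a • T) → e a ∈ (Fx (T ⊓ MulAut.conj a • T) : AddSubgroup D) ∧ e a ∈ U
  co : ∀ (a b : G) (P : Subgroup G), Qf P → P ≤ MulAut.conj a • T → P ≤ MulAut.conj (a * b) • T →
    e (a * b) - (e a + a • e b) ∈ M0 P
  tr : ∀ t ∈ T, Qf T → e t ∈ M0 T

/-- `B` is a minimal member of the family of order `2|X|` acting on `D` as a transvection with
commutator `z` (only for `p = 2`). -/
structure IsT2 (X : Subgroup G) (Qf : Subgroup G → Prop) (B : Subgroup G) (z : D) : Prop where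
  q : Qf B
  min : ∀ B', B' < B → ¬ Qf B'
  ind : X.relIndex B = 2
  ne : z ≠ 0
  two : 2 • z = 0
  act : ∀ b ∈ B, ∀ y : D, b • y = y ∨ b • y = y + z
  out : ∀ b ∈ B, b ∉ X → ∃ y : D, b • y = y + z

end Cfsg.Agent.H45.FX
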