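import Cfsg.Agent.H45.FX.Defs

/-!
# S5242: norms (transfer) between subgroups: transitivity, conjugation, double cosets
-/

namespace Cfsg.Agent.H45.FX

open Pointwise

variable {G : Type*} [Group G] [Finite G] {D : Type*} [AddCommGroup D] [DistribMulAction G D]

omit [Finite G] in
theorem Fx_anti {R P : Subgroup G} (h : R ≤ P) : (Fx P : AddSubgroup D) ≤ Fx R :=
  fun _ hx r hr => hx r (h hr)

omit [Finite G] in
theorem mem_conj_smul {g x : G} {R : Subgroup G} : x ∈ MulAut.conj g • R ↔ g⁻¹ * x * g ∈ R := by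
  rw [Subgroup.mem_pointwise_smul_iff_inv_smul_mem, ← map_inv, MulAut.smul_def, MulAut.conj_apply,
    inv_inv]

omit [Finite G] in
theorem smul_mem_Fx_conj (g : G) {R : Subgroup G} {x : D} (hx : x ∈ (Fx R : AddSubgroup D)) :
    g • x ∈ (Fx (MulAut.conj g • R) : AddSubgroup D) := by
  intro r hr
  rw [mem_conj_smul] at hr
  have h := hx _ hr
  rw [smul_smul]
  have h2 : r * g = g * (g⁻¹ * r * g) := by group
  rw [h2, mul_smul, h]

omit [Finite G] in
/-- Representatives may be chosen freely. -/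
theorem out_smul_eq {R P : Subgroup G} {x : D} (hx : x ∈ (Fx R : AddSubgroup D)) (g : P) :
    (((Quotient.out (QuotientGroup.mk g : P ⧸ R.subgroupOf P) : P)) : G) • x = (g : G) • x := by
  obtain ⟨s, hs⟩ := QuotientGroup.mk_out_eq_mul (R.subgroupOf P) g
  have h1 : (Quotient.out (QuotientGroup.mk g : P ⧸ R.subgroupOf P) : P) = g * (s : P) := hs
  rw [h1, Subgroup.coe_mul, mul_smul, hx _ (Subgroup.mem_subgroupOf.1 s.2)]

/-- The norm computed with an arbitrary transversal. -/
theorem nm_eq_sum {ι : Type*} {R P : Subgroup G} {x : D} (hx : x ∈ (Fx R : AddSubgroup D)) (f : ι → G)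
    (hf : ∀ i, f i ∈ P) (hinj : ∀ i j, (f i)⁻¹ * f j ∈ R → i = j)
    (hsurj : ∀ g ∈ P, ∃ i, g⁻¹ * f i ∈ R) : nm R P x = ∑ᶠ i, f i • x := by
  unfold nm
  symm
  refine finsum_eq_of_bijective
    (fun i => (QuotientGroup.mk (⟨f i, hf i⟩ : P) : P ⧸ R.subgroupOf P)) ⟨?_, ?_⟩ ?_
  · intro i j hij
    apply hinj
    have := QuotientGroup.eq.1 hij
    exact Subgroup.mem_subgroupOf.1 this
  · intro q
    induction q using QuotientGroup.induction_on with
    | H g =>
      obtain ⟨i, hi⟩ := hsurj (g : G) g.2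
      refine ⟨i, ?_⟩
      refine (QuotientGroup.eq.2 ?_).symm
      exact Subgroup.mem_subgroupOf.2 hi
  · intro i
    exact (out_smul_eq hx ⟨f i, hf i⟩).symm

theorem nm_mem_Fx {R P : Subgroup G} (_hRP : R ≤ P) {x : D} (hx : x ∈ (Fx R : AddSubgroup D)) :
    nm R P x ∈ (Fx P : AddSubgroup D) := by
  classical
  intro g hg
  conv_rhs => rw [nm_eq_sum hx (ι := P ⧸ R.subgroupOf P) (fun q => g * ((Quotient.out q : P) : G))
    (fun q => P.mul_mem hg (Quotient.out q).2) (by
      intro q q' h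
      have h1 : (((Quotient.out q : P) : G))⁻¹ * ((Quotient.out q' : P) : G) ∈ R := by
        have : (g * ((Quotient.out q : P) : G))⁻¹ * (g * ((Quotient.out q' : P) : G)) =
          (((Quotient.out q : P) : G))⁻¹ * ((Quotient.out q' : P) : G) := by group
        rwa [this] at h
      rw [← QuotientGroup.out_eq' q, ← QuotientGroup.out_eq' q']
      exact QuotientGroup.eq.2 (Subgroup.mem_subgroupOf.2 h1)) (by
      intro k hk
      refine ⟨QuotientGroup.mk (⟨g⁻¹ * k, P.mul_mem (P.inv_mem hg) hk⟩ : P), ?_⟩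
      obtain ⟨s, hs⟩ := QuotientGroup.mk_out_eq_mul (R.subgroupOf P)
        (⟨g⁻¹ * k, P.mul_mem (P.inv_mem hg) hk⟩ : P)
      have h1 : (Quotient.out (QuotientGroup.mk (⟨g⁻¹ * k, P.mul_mem (P.inv_mem hg) hk⟩ : P) :
        P ⧸ R.subgroupOf P) : P) = ⟨g⁻¹ * k, P.mul_mem (P.inv_mem hg) hk⟩ * (s : P) := hs
      rw [h1, Subgroup.coe_mul]
      have : k⁻¹ * (g * (g⁻¹ * k * ((s : P) : G))) = ((s : P) : G) := by group
      rw [this]
      exact Subgroup.mem_subgroupOf.1 s.2)]
  unfold nm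
  haveI := Fintype.ofFinite (P ⧸ R.subgroupOf P)
  rw [finsum_eq_sum_of_fintype, finsum_eq_sum_of_fintype, Finset.smul_sum]
  exact Finset.sum_congr rfl fun q _ => smul_smul _ _ _

theorem nm_trans {R Q P : Subgroup G} (_hRQ : R ≤ Q) (hQP : Q ≤ P) {x : D}
    (hx : x ∈ (Fx R : AddSubgroup D)) : nm R P x = nm Q P (nm R Q x) := by
  classical
  rw [nm_eq_sum hx (ι := (P ⧸ Q.subgroupOf P) × (Q ⧸ R.subgroupOf Q))
    (fun q => ((Quotient.out q.1 : P) : G) * ((Quotient.out q.2 : Q) : G))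
    (fun q => P.mul_mem (Quotient.out q.1).2 (hQP (Quotient.out q.2).2)) (by
      rintro ⟨a, b⟩ ⟨a', b'⟩ h
      simp only at h
      have h1 : (((Quotient.out a : P) : G))⁻¹ * ((Quotient.out a' : P) : G) ∈ Q := by
        have e1 : (((Quotient.out a : P) : G))⁻¹ * ((Quotient.out a' : P) : G) =
          ((Quotient.out b : Q) : G) * ((((Quotient.out a : P) : G) * ((Quotient.out b : Q) : G))⁻¹ *
            (((Quotient.out a' : P) : G) * ((Quotient.out b' : Q) : G))) *
            (((Quotient.out b' : Q) : G))⁻¹ := by group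
        rw [e1]
        exact Q.mul_mem (Q.mul_mem (Quotient.out b).2 (_hRQ h)) (Q.inv_mem (Quotient.out b').2)
      have h2 : a = a' := by
        rw [← QuotientGroup.out_eq' a, ← QuotientGroup.out_eq' a']
        exact QuotientGroup.eq.2 (Subgroup.mem_subgroupOf.2 h1)
      subst h2
      have h3 : (((Quotient.out b : Q) : G))⁻¹ * ((Quotient.out b' : Q) : G) ∈ R := by
        have e1 : (((Quotient.out b : Q) : G))⁻¹ * ((Quotient.out b' : Q) : G) =
          ((((Quotient.out a : P) : G) * ((Quotient.out b : Q) : G))⁻¹ *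
            (((Quotient.out a : P) : G) * ((Quotient.out b' : Q) : G))) := by group
        rwa [e1]
      have h4 : b = b' := by
        rw [← QuotientGroup.out_eq' b, ← QuotientGroup.out_eq' b']
        exact QuotientGroup.eq.2 (Subgroup.mem_subgroupOf.2 h3)
      rw [h4]) (by
      intro k hk
      obtain ⟨s, hs⟩ := QuotientGroup.mk_out_eq_mul (Q.subgroupOf P) (⟨k, hk⟩ : P)
      have h1 : (Quotient.out (QuotientGroup.mk (⟨k, hk⟩ : P) : P ⧸ Q.subgroupOf P) : P) =
        ⟨k, hk⟩ * (s : P) := hs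
      have hsQ : ((s : P) : G) ∈ Q := Subgroup.mem_subgroupOf.1 s.2
      obtain ⟨r, hr⟩ := QuotientGroup.mk_out_eq_mul (R.subgroupOf Q) (⟨((s : P) : G)⁻¹, Q.inv_mem hsQ⟩ : Q)
      have h2 : (Quotient.out (QuotientGroup.mk (⟨((s : P) : G)⁻¹, Q.inv_mem hsQ⟩ : Q) :
        Q ⧸ R.subgroupOf Q) : Q) = ⟨((s : P) : G)⁻¹, Q.inv_mem hsQ⟩ * (r : Q) := hr
      refine ⟨(QuotientGroup.mk (⟨k, hk⟩ : P),
        QuotientGroup.mk (⟨((s : P) : G)⁻¹, Q.inv_mem hsQ⟩ : Q)), ?_⟩
      simp only
      rw [h1, h2, Subgroup.coe_mul, Subgroup.coe_mul]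
      have : k⁻¹ * (k * ((s : P) : G) * (((s : P) : G)⁻¹ * ((r : Q) : G))) = ((r : Q) : G) := by group
      rw [this]
      exact Subgroup.mem_subgroupOf.1 r.2)]
  unfold nm
  haveI := Fintype.ofFinite (P ⧸ Q.subgroupOf P)
  haveI := Fintype.ofFinite (Q ⧸ R.subgroupOf Q)
  rw [finsum_eq_sum_of_fintype, finsum_eq_sum_of_fintype, finsum_eq_sum_of_fintype,
    Fintype.sum_prod_type]
  refine Finset.sum_congr rfl fun a _ => ?_
  rw [Finset.smul_sum]
  exact Finset.sum_congr rfl fun q _ => mul_smul _ _ _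

theorem nm_smul (g : G) {R P : Subgroup G} (_hRP : R ≤ P) {x : D} (hx : x ∈ (Fx R : AddSubgroup D)) :
    g • nm R P x = nm (MulAut.conj g • R) (MulAut.conj g • P) (g • x) := by
  classical
  rw [nm_eq_sum (smul_mem_Fx_conj g hx) (ι := P ⧸ R.subgroupOf P)
    (fun q => g * ((Quotient.out q : P) : G) * g⁻¹)
    (fun q => by
      rw [mem_conj_smul]
      have : g⁻¹ * (g * ((Quotient.out q : P) : G) * g⁻¹) * g = ((Quotient.out q : P) : G) := by group
      rw [this]
      exact (Quotient.out q).2) (by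
      intro q q' h
      rw [mem_conj_smul] at h
      have h1 : (((Quotient.out q : P) : G))⁻¹ * ((Quotient.out q' : P) : G) ∈ R := by
        have : g⁻¹ * ((g * ((Quotient.out q : P) : G) * g⁻¹)⁻¹ *
          (g * ((Quotient.out q' : P) : G) * g⁻¹)) * g =
          (((Quotient.out q : P) : G))⁻¹ * ((Quotient.out q' : P) : G) := by group
        rwa [this] at h
      rw [← QuotientGroup.out_eq' q, ← QuotientGroup.out_eq' q']
      exact QuotientGroup.eq.2 (Subgroup.mem_subgroupOf.2 h1)) (by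
      intro k hk
      rw [mem_conj_smul] at hk
      refine ⟨QuotientGroup.mk (⟨g⁻¹ * k * g, hk⟩ : P), ?_⟩
      obtain ⟨s, hs⟩ := QuotientGroup.mk_out_eq_mul (R.subgroupOf P) (⟨g⁻¹ * k * g, hk⟩ : P)
      have h1 : (Quotient.out (QuotientGroup.mk (⟨g⁻¹ * k * g, hk⟩ : P) :
        P ⧸ R.subgroupOf P) : P) = ⟨g⁻¹ * k * g, hk⟩ * (s : P) := hs
      rw [h1, Subgroup.coe_mul, mem_conj_smul]
      have : g⁻¹ * (k⁻¹ * (g * (g⁻¹ * k * g * ((s : P) : G)) * g⁻¹)) * g = ((s : P) : G) := by group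
      rw [this]
      exact Subgroup.mem_subgroupOf.1 s.2)]
  unfold nm
  haveI := Fintype.ofFinite (P ⧸ R.subgroupOf P)
  rw [finsum_eq_sum_of_fintype, finsum_eq_sum_of_fintype, Finset.smul_sum]
  refine Finset.sum_congr rfl fun q _ => ?_
  rw [smul_smul, smul_smul]
  congr 1
  group

theorem nm_of_fixed {R P : Subgroup G} (_hRP : R ≤ P) {x : D} (hx : x ∈ (Fx P : AddSubgroup D)) :
    nm R P x = R.relIndex P • x := by
  unfold nm
  haveI := Fintype.ofFinite (P ⧸ R.subgroupOf P)
  rw [finsum_eq_sum_of_fintype]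
  rw [Finset.sum_congr rfl (fun q _ => hx _ (Quotient.out q).2), Finset.sum_const, Finset.card_univ,
    ← Nat.card_eq_fintype_card]
  rfl

omit [Finite G] in
theorem nm_zero (R P : Subgroup G) : nm R P (0 : D) = 0 := by
  unfold nm
  simp

theorem nm_add (R P : Subgroup G) (x y : D) : nm R P (x + y) = nm R P x + nm R P y := by
  unfold nm
  haveI := Fintype.ofFinite (P ⧸ R.subgroupOf P)
  rw [finsum_eq_sum_of_fintype, finsum_eq_sum_of_fintype, finsum_eq_sum_of_fintype,
    ← Finset.sum_add_distrib]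
  exact Finset.sum_congr rfl fun q _ => smul_add _ _ _

theorem nm_neg (R P : Subgroup G) (x : D) : nm R P (-x) = - nm R P x := by
  have h := nm_add R P (-x) x
  rw [neg_add_cancel, nm_zero] at h
  exact eq_neg_of_add_eq_zero_left h.symm

theorem nm_sub (R P : Subgroup G) (x y : D) : nm R P (x - y) = nm R P x - nm R P y := by
  rw [sub_eq_add_neg, nm_add, nm_neg, ← sub_eq_add_neg]

theorem nm_self {P : Subgroup G} {x : D} (hx : x ∈ (Fx P : AddSubgroup D)) : nm P P x = x := by
  rw [nm_of_fixed le_rfl hx, Subgroup.relIndex_self, one_smul]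

theorem nm_index_two {R P : Subgroup G} (_hRP : R ≤ P) (h2 : R.relIndex P = 2) {x : D}
    (hx : x ∈ (Fx R : AddSubgroup D)) {t : G} (ht : t ∈ P) (htR : t ∉ R) :
    nm R P x = x + t • x := by
  classical
  rw [nm_eq_sum hx (ι := Fin 2) ![1, t] (by
      intro i; fin_cases i
      · exact P.one_mem
      · exact ht) (by
      intro i j h
      fin_cases i <;> fin_cases j
      · rfl
      · exact absurd (by simpa using h) htR
      · exact absurd (by simpa using h) htR
      · rfl) (by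
      intro g hg
      by_cases hgR : g ∈ R
      · exact ⟨0, by simpa using hgR⟩
      · refine ⟨1, ?_⟩
        have h3 : (⟨g, hg⟩ : P)⁻¹ * (⟨t, ht⟩ : P) ∈ R.subgroupOf P ↔
            ((⟨g, hg⟩ : P)⁻¹ ∈ R.subgroupOf P ↔ (⟨t, ht⟩ : P) ∈ R.subgroupOf P) :=
          Subgroup.mul_mem_iff_of_index_two h2
        have h4 : (⟨g, hg⟩ : P)⁻¹ * (⟨t, ht⟩ : P) ∈ R.subgroupOf P := by
          rw [h3, inv_mem_iff, Subgroup.mem_subgroupOf, Subgroup.mem_subgroupOf]
          exact ⟨fun h => absurd h hgR, fun h => absurd h htR⟩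
        exact Subgroup.mem_subgroupOf.1 h4)]
  rw [finsum_eq_sum_of_fintype, Fin.sum_univ_two]
  simp

/-- norms lie in `P`-stable subgroups -/
theorem nm_mem_of_stable {R P : Subgroup G} {U : AddSubgroup D}
    (hU : ∀ g ∈ P, ∀ x ∈ U, g • x ∈ U) {x : D} (hx : x ∈ U) : nm R P x ∈ U := by
  unfold nm
  haveI := Fintype.ofFinite (P ⧸ R.subgroupOf P)
  rw [finsum_eq_sum_of_fintype]
  exact AddSubgroup.sum_mem _ fun q _ => hU _ (Quotient.out q).2 _ hx

/-- The orbit sum lemma. -/
theorem orbit_sum_mem {P : Subgroup G} {Z : Type*} [Finite Z] [MulAction P Z] (F : Z → D)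
    (hF : ∀ (g : P) (z : Z), F (g • z) = (g : G) • F z) (M : AddSubgroup D)
    (h : ∀ (z : Z) (R : Subgroup G), (∀ g : G, g ∈ R ↔ ∃ hg : g ∈ P, (⟨g, hg⟩ : P) • z = z) →
      nm R P (F z) ∈ M) :
    ∑ᶠ z, F z ∈ M := by
  classical
  haveI := Fintype.ofFinite Z
  haveI : Fintype (Quotient (MulAction.orbitRel P Z)) := Fintype.ofFinite _
  rw [finsum_eq_sum_of_fintype]
  rw [← Finset.sum_fiberwise (s := Finset.univ)
    (g := fun z => (Quotient.mk (MulAction.orbitRel P Z) z))]
  refine AddSubgroup.sum_mem _ fun ω _ => ?_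
  induction ω using Quotient.ind with
  | _ z0 =>
    set R : Subgroup G := (MulAction.stabilizer P z0).map P.subtype with hR
    have hmem : ∀ g : G, g ∈ R ↔ ∃ hg : g ∈ P, (⟨g, hg⟩ : P) • z0 = z0 := by
      intro g
      rw [hR, Subgroup.mem_map]
      constructor
      · rintro ⟨k, hk, rfl⟩
        exact ⟨k.2, MulAction.mem_stabilizer_iff.1 hk⟩
      · rintro ⟨hg, hgz⟩
        exact ⟨⟨g, hg⟩, MulAction.mem_stabilizer_iff.2 hgz, rfl⟩
    have key := h z0 R hmem
    have e : nm R P (F z0) = ∑ z ∈ Finset.univ.filter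
        (fun z => (Quotient.mk (MulAction.orbitRel P Z) z) =
          Quotient.mk (MulAction.orbitRel P Z) z0), F z := by
      unfold nm
      haveI := Fintype.ofFinite (P ⧸ R.subgroupOf P)
      rw [finsum_eq_sum_of_fintype]
      refine Finset.sum_nbij (fun q => (Quotient.out q : P) • z0) ?_ ?_ ?_ ?_
      · intro q _
        rw [Finset.mem_filter]
        refine ⟨Finset.mem_univ _, ?_⟩
        exact Quotient.sound (MulAction.orbitRel_apply.2 ⟨(Quotient.out q : P), rfl⟩)
      · intro q _ q' _ hqq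
        simp only at hqq
        rw [← QuotientGroup.out_eq' q, ← QuotientGroup.out_eq' q']
        refine QuotientGroup.eq.2 (Subgroup.mem_subgroupOf.2 ((hmem _).2 ⟨?_, ?_⟩))
        · exact ((Quotient.out q : P)⁻¹ * (Quotient.out q' : P)).2
        · change ((Quotient.out q : P)⁻¹ * (Quotient.out q' : P)) • z0 = z0
          rw [mul_smul, ← hqq, ← mul_smul, inv_mul_cancel, one_smul]
      · intro z hz
        rw [Finset.coe_filter] at hz
        have hz2 := Quotient.exact hz.2
        obtain ⟨g, hg⟩ := MulAction.orbitRel_apply.1 hz2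
        refine ⟨QuotientGroup.mk g, Finset.mem_coe.2 (Finset.mem_univ _), ?_⟩
        obtain ⟨s, hs⟩ := QuotientGroup.mk_out_eq_mul (R.subgroupOf P) g
        have h1 : (Quotient.out (QuotientGroup.mk g : P ⧸ R.subgroupOf P) : P) = g * (s : P) := hs
        simp only
        rw [h1, mul_smul]
        obtain ⟨hs1, hs2⟩ := (hmem _).1 (Subgroup.mem_subgroupOf.1 s.2)
        have : (s : P) • z0 = z0 := hs2
        rw [this]
        exact hg
      · intro q _
        exact (hF _ _).symm
    rw [← e]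
    exact key

/-- double coset formula as a membership criterion -/
theorem nm_mem_of_double {R P B : Subgroup G} (_hRP : R ≤ P) (hBP : B ≤ P) {x : D}
    (hx : x ∈ (Fx R : AddSubgroup D)) (M : AddSubgroup D)
    (h : ∀ g ∈ P, nm (B ⊓ MulAut.conj g • R) B (g • x) ∈ M) : nm R P x ∈ M := by
  letI : MulAction B (P ⧸ R.subgroupOf P) := MulAction.compHom _ (Subgroup.inclusion hBP)
  have hact : ∀ (b : B) (g : P), b • (QuotientGroup.mk g : P ⧸ R.subgroupOf P) =
      QuotientGroup.mk (Subgroup.inclusion hBP b * g) := fun b g => rfl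
  unfold nm
  refine orbit_sum_mem (P := B) _ ?_ M ?_
  · intro b q
    induction q using QuotientGroup.induction_on with
    | H g =>
      rw [hact, out_smul_eq hx, out_smul_eq hx, Subgroup.coe_mul, mul_smul]
      rfl
  · intro q S hS
    set g : P := Quotient.out q with hg
    have hq : q = QuotientGroup.mk g := (QuotientGroup.out_eq' q).symm
    have hSe : S = B ⊓ MulAut.conj (g : G) • R := by
      ext b
      rw [hS, Subgroup.mem_inf, mem_conj_smul]
      constructor
      · rintro ⟨hb, hbq⟩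
        refine ⟨hb, ?_⟩
        rw [hq, hact] at hbq
        have h1 := QuotientGroup.eq.1 hbq.symm
        have h2 := Subgroup.mem_subgroupOf.1 h1
        have h3 : ((g⁻¹ * (Subgroup.inclusion hBP ⟨b, hb⟩ * g) : P) : G) = (g : G)⁻¹ * b * g := by
          simp only [Subgroup.coe_mul, Subgroup.coe_inv, Subgroup.coe_inclusion, mul_assoc]
        rwa [h3] at h2
      · rintro ⟨hb, hbg⟩
        refine ⟨hb, ?_⟩
        rw [hq, hact]
        refine (QuotientGroup.eq.2 (Subgroup.mem_subgroupOf.2 ?_)).symm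
        have h3 : ((g⁻¹ * (Subgroup.inclusion hBP ⟨b, hb⟩ * g) : P) : G) = (g : G)⁻¹ * b * g := by
          simp only [Subgroup.coe_mul, Subgroup.coe_inv, Subgroup.coe_inclusion, mul_assoc]
        rwa [h3]
    rw [hSe]
    exact h (g : G) g.2

end Cfsg.Agent.H45.FX
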